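import Groth.Agent.CAlgRedStab.Main

/-!
# Existence of finite models
-/

universe u

open TensorProduct

namespace Groth.Agent.CAlgRedStab

variable {A K' : Type u} [CommRing A] [IsDomain A] [Field K'] [Algebra A K']
  [Algebra (FractionRing A) K'] [IsScalarTower A (FractionRing A) K']
  [FiniteDimensional (FractionRing A) K']

theorem flat_extension : Module.Flat A K' :=
  haveI : Module.Flat A (FractionRing A) := IsLocalization.flat _ (nonZeroDivisors A)
  Module.Flat.trans A (FractionRing A) K'

theorem exists_model : ∃ C : Subalgebra A K', IsModel C := by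
  classical
  let b := Module.finBasis (FractionRing A) K'
  have hmul : ∀ i, ∃ y : A, y ≠ 0 ∧ IsIntegral A (y • b i) := fun i =>
    ((IsFractionRing.isAlgebraic_iff A (FractionRing A) K').2
      (Algebra.IsAlgebraic.isAlgebraic (b i))).exists_integral_multiple
  choose y hy hint using hmul
  let C := Algebra.adjoin A (Set.range fun i => y i • b i)
  have hfin : Module.Finite A C := Module.Finite.iff_fg.2 (fg_adjoin_of_finite (Set.finite_range _)
    (by rintro _ ⟨i, rfl⟩; exact hint i))
  have hne : ∀ a : A, a ≠ 0 → algebraMap A K' a ≠ 0 := fun a ha => by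
    rw [IsScalarTower.algebraMap_apply A (FractionRing A) K']
    exact (map_ne_zero_iff _ (RingHom.injective _)).2
      ((map_ne_zero_iff _ (IsFractionRing.injective A (FractionRing A))).2 ha)
  refine ⟨C, hfin, fun x => ?_⟩
  have hx : x ∈ Submodule.span (FractionRing A) (Set.range b) := b.mem_span x
  induction hx using Submodule.span_induction with
  | mem x hx =>
    obtain ⟨i, rfl⟩ := hx
    refine ⟨⟨y i • b i, Algebra.subset_adjoin ⟨i, rfl⟩⟩, ⟨algebraMap A K' (y i), C.algebraMap_mem _⟩,
      hne _ (hy i), ?_⟩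
    show b i * algebraMap A K' (y i) = y i • b i
    rw [Algebra.smul_def, mul_comm]
  | zero => exact ⟨0, 1, one_ne_zero, by simp⟩
  | add x z _ _ hx hz =>
    obtain ⟨a, c, hc, e⟩ := hx
    obtain ⟨a', c', hc', e'⟩ := hz
    exact ⟨a * c' + a' * c, c * c', mul_ne_zero hc hc', by push_cast; rw [← e, ← e']; ring⟩
  | smul k x _ hx =>
    obtain ⟨a, c, hc, e⟩ := hx
    obtain ⟨p, s, hs, rfl⟩ := IsFractionRing.div_surjective A k
    have hs' : s ≠ 0 := nonZeroDivisors.ne_zero hs
    refine ⟨⟨algebraMap A K' p, C.algebraMap_mem p⟩ * a, ⟨algebraMap A K' s, C.algebraMap_mem s⟩ * c,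
      mul_ne_zero (hne s hs') hc, ?_⟩
    show _ * (algebraMap A K' s * (c : K')) = algebraMap A K' p * (a : K')
    rw [← e, Algebra.smul_def, map_div₀, ← IsScalarTower.algebraMap_apply,
      ← IsScalarTower.algebraMap_apply]
    field_simp [hne s hs']

end Groth.Agent.CAlgRedStab
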