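import Groth.Agent.CAlgRedStab.Prime
import Mathlib.AlgebraicGeometry.Morphisms.UniversallyInjective
import Mathlib.RingTheory.Flat.FaithfullyFlat.Algebra
import Mathlib.RingTheory.Spectrum.Prime.Noetherian
import Mathlib.RingTheory.IntegralClosure.IsIntegralClosure.Basic
import Mathlib.RingTheory.Localization.Integral

/-!
# Stabilization of the reduced rings of finite subalgebras
-/

universe u

open TensorProduct AlgebraicGeometry CategoryTheory

namespace Groth.Agent.CAlgRedStab

variable {A B K' : Type u} [CommRing A] [CommRing B] [Algebra A B] [Field K'] [Algebra A K']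

/-- Finite subalgebras of `K'` with fraction field `K'`. -/
def IsModel (C : Subalgebra A K') : Prop :=
  Module.Finite A C ∧ ∀ x : K', ∃ a b : C, (b : K') ≠ 0 ∧ x * b = a

/-- Universal injectivity of a map of affine schemes, tested on field points. -/
theorem universallyInjective_Spec_of {A' B' : Type u} [CommRing A'] [CommRing B'] (φ : A' →+* B')
    (h : ∀ (K : Type u) [Field K] (g g' : B' →+* K), g.comp φ = g'.comp φ → g = g') :
    UniversallyInjective (Spec.map (CommRingCat.ofHom φ)) := by
  refine ((tfae_universallyInjective _).out 0 1).mpr ?_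
  intro K _ a b hab
  obtain ⟨a', rfl⟩ := Spec.map_surjective a
  obtain ⟨b', rfl⟩ := Spec.map_surjective b
  simp only [← Spec.map_comp] at hab
  congr 1
  exact CommRingCat.hom_ext (h K a'.hom b'.hom (congrArg CommRingCat.Hom.hom (Spec.map_injective hab)))

lemma IsModel.sup_adjoin {C : Subalgebra A K'} (h : IsModel C) {D : Subalgebra A K'}
    [Module.Finite A D] : IsModel (C ⊔ D) := by
  haveI := h.1
  refine ⟨Subalgebra.finite_sup C D, fun x => ?_⟩
  obtain ⟨a, b, hb, e⟩ := h.2 x
  exact ⟨⟨a.1, Algebra.mem_sup_left a.2⟩, ⟨b.1, Algebra.mem_sup_left b.2⟩, hb, e⟩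

section

variable (B) in
/-- The map `C ⊗ B → K' ⊗ B`. -/
noncomputable abbrev bigMap (C : Subalgebra A K') : C ⊗[A] B →ₐ[A] K' ⊗[A] B :=
  Algebra.TensorProduct.map C.val (AlgHom.id A B)

variable [Module.Flat A B]

lemma bigMap_injective (C : Subalgebra A K') : Function.Injective (bigMap B C) :=
  Module.Flat.rTensor_preserves_injective_linearMap (M := B) C.val.toLinearMap Subtype.val_injective

lemma map_inclusion_injective {C D : Subalgebra A K'} (h : C ≤ D) :
    Function.Injective (Algebra.TensorProduct.map (Subalgebra.inclusion h) (AlgHom.id A B)) :=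
  Module.Flat.rTensor_preserves_injective_linearMap (M := B) (Subalgebra.inclusion h).toLinearMap
    (Subalgebra.inclusion_injective h)

lemma bigMap_inclusion {C D : Subalgebra A K'} (h : C ≤ D) (x : C ⊗[A] B) :
    bigMap B D (Algebra.TensorProduct.map (Subalgebra.inclusion h) (AlgHom.id A B) x) =
      bigMap B C x := by
  induction x using TensorProduct.induction_on with
  | zero => simp
  | tmul c b => rfl
  | add x y hx hy => simp only [map_add, hx, hy]

end

lemma isNoetherianRing_big [IsNoetherianRing B] (C₀ : Subalgebra A K') (h₀ : IsModel C₀) :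
    IsNoetherianRing (K' ⊗[A] B) := by
  haveI := h₀.1
  letI : Algebra B (C₀ ⊗[A] B) := Algebra.TensorProduct.rightAlgebra
  haveI : Module.Finite B (C₀ ⊗[A] B) := by
    refine Module.Finite.equiv (R := B)
      ({ (TensorProduct.comm A B C₀).toAddEquiv with
         map_smul' := fun r x => by
           induction x using TensorProduct.induction_on with
           | zero => exact (congrArg _ (smul_zero r)).trans ((map_zero _).trans
              ((smul_zero r).symm.trans (congrArg (r • ·) (map_zero _).symm)))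
           | tmul b c =>
             show TensorProduct.comm A B C₀ (r • (b ⊗ₜ[A] c)) = r • (c ⊗ₜ[A] b)
             rw [TensorProduct.smul_tmul', TensorProduct.comm_tmul, smul_eq_mul, Algebra.smul_def,
               Algebra.TensorProduct.right_algebraMap_apply, Algebra.TensorProduct.tmul_mul_tmul, one_mul]
           | add x y hx hy =>
             show TensorProduct.comm A B C₀ (r • (x + y)) = r • TensorProduct.comm A B C₀ (x + y)
             rw [smul_add, map_add, map_add]
             exact (congrArg₂ (· + ·) hx hy).trans (smul_add r _ _).symm } : (B ⊗[A] C₀) ≃ₗ[B] (C₀ ⊗[A] B))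
  haveI : IsNoetherianRing (C₀ ⊗[A] B) := IsNoetherianRing.of_finite B _
  let S : Submonoid (C₀ ⊗[A] B) :=
    { carrier := {x | ∃ c : C₀, (c : K') ≠ 0 ∧ x = c ⊗ₜ[A] (1 : B)}
      one_mem' := ⟨1, one_ne_zero, rfl⟩
      mul_mem' := by
        rintro _ _ ⟨c, hc, rfl⟩ ⟨d, hd, rfl⟩
        exact ⟨c * d, mul_ne_zero hc hd, by rw [Algebra.TensorProduct.tmul_mul_tmul, one_mul]⟩ }
  have hS : ∀ s : S, IsUnit ((bigMap B C₀).toRingHom s) := by
    rintro ⟨_, c, hc, rfl⟩
    exact (isUnit_iff_ne_zero.2 hc).map (Algebra.TensorProduct.includeLeftRingHom : K' →+* K' ⊗[A] B)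
  haveI : IsNoetherianRing (Localization S) := IsLocalization.isNoetherianRing S (Localization S) inferInstance
  refine isNoetherianRing_of_surjective (Localization S) (K' ⊗[A] B)
    (IsLocalization.lift (M := S) (S := Localization S) hS) fun x => ?_
  induction x using TensorProduct.induction_on with
  | zero => exact ⟨0, RingHom.map_zero _⟩
  | tmul k b =>
    obtain ⟨a, c, hc, e⟩ := h₀.2 k
    refine ⟨IsLocalization.mk' (Localization S) (a ⊗ₜ[A] b) (⟨c ⊗ₜ[A] 1, c, hc, rfl⟩ : S), ?_⟩
    rw [IsLocalization.lift_mk'_spec]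
    show (a : K') ⊗ₜ[A] b = ((c : K') ⊗ₜ[A] (1 : B)) * (k ⊗ₜ[A] b)
    rw [Algebra.TensorProduct.tmul_mul_tmul, one_mul, mul_comm, e]
  | add x y hx hy =>
    obtain ⟨a, rfl⟩ := hx
    obtain ⟨a', rfl⟩ := hy
    exact ⟨a + a', RingHom.map_add _ a a'⟩

theorem exists_stable [IsDomain A] [IsNoetherianRing B] [Module.Flat A B] [Module.Flat A K']
    (hJ : ∀ (q : Ideal B) [q.IsPrime], q ∈ minimalPrimes B → CAlg.IsN2 (B ⧸ q))
    (C₀ : Subalgebra A K') (h₀ : IsModel C₀) :
    ∃ Cα : Subalgebra A K', IsModel Cα ∧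
      (∀ C : Subalgebra A K', IsModel C → ∀ hle : Cα ≤ C,
        (∀ x : ↥Cα ⊗[A] B, IsNilpotent (Algebra.TensorProduct.map (Subalgebra.inclusion hle) (AlgHom.id A B) x) →
          IsNilpotent x) ∧
        (∀ y : ↥C ⊗[A] B, ∃ x : ↥Cα ⊗[A] B,
          IsNilpotent (Algebra.TensorProduct.map (Subalgebra.inclusion hle) (AlgHom.id A B) x - y))) ∧
      (Module.FaithfullyFlat A B → ∀ hint : Cα ≤ integralClosure A K',
        UniversallyInjective (Spec.map (CommRingCat.ofHom (Subalgebra.inclusion hint).toRingHom))) := by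
  classical
  let R := K' ⊗[A] B
  haveI : IsNoetherianRing R := isNoetherianRing_big C₀ h₀
  letI : Algebra B R := Algebra.TensorProduct.rightAlgebra
  haveI : IsScalarTower A B R := Algebra.TensorProduct.right_isScalarTower
  haveI : Module.Flat B R := by
    let e : (B ⊗[A] K') ≃ₗ[B] R :=
      { (TensorProduct.comm A B K').toAddEquiv with
        map_smul' := fun r x => by
          induction x using TensorProduct.induction_on with
          | zero => exact (congrArg _ (smul_zero r)).trans ((map_zero _).trans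
              ((smul_zero r).symm.trans (congrArg (r • ·) (map_zero _).symm)))
          | tmul b c =>
            show TensorProduct.comm A B K' (r • (b ⊗ₜ[A] c)) = r • (c ⊗ₜ[A] b)
            rw [TensorProduct.smul_tmul', TensorProduct.comm_tmul, smul_eq_mul, Algebra.smul_def,
              Algebra.TensorProduct.right_algebraMap_apply, Algebra.TensorProduct.tmul_mul_tmul, one_mul]
          | add x y hx hy =>
            show TensorProduct.comm A B K' (r • (x + y)) = r • TensorProduct.comm A B K' (x + y)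
            rw [smul_add, map_add, map_add]
            exact (congrArg₂ (· + ·) hx hy).trans (smul_add r _ _).symm }
    exact Module.Flat.of_linearEquiv e.symm
  haveI : Algebra.HasGoingDown B R := inferInstance
  haveI : Fintype (minimalPrimes R) := (minimalPrimes.finite_of_isNoetherianRing R).fintype
  haveI hp : ∀ P : minimalPrimes R, P.1.IsPrime := fun P => P.2.1.1
  -- minimal primes lie over minimal primes
  have hunder : ∀ P : minimalPrimes R, P.1.under B ∈ minimalPrimes B := by
    intro P
    haveI := hp P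
    refine ⟨⟨inferInstance, bot_le⟩, fun q hq hle => ?_⟩
    haveI := hq.1
    haveI : P.1.LiesOver (P.1.under B) := ⟨rfl⟩
    obtain ⟨P', hP', hP'p, hP'o⟩ := Ideal.exists_ideal_le_liesOver_of_le (p := q) (q := P.1.under B) P.1 hle
    have h := P.2.2 ⟨hP'p, bot_le⟩ hP'
    have e : P' = P.1 := le_antisymm hP' h
    rw [hP'o.over, e]
  haveI := h₀.1
  obtain ⟨s₀, hs₀⟩ := (Module.Finite.fg_top : (⊤ : Submodule A C₀).FG)
  let inc : C₀ →ₐ[A] R := (Algebra.TensorProduct.includeLeft : K' →ₐ[A] R).comp C₀.val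
  let G : Finset R := s₀.image inc
  have hincint : ∀ c : C₀, IsIntegral B (inc c) := fun c =>
    ((Algebra.IsIntegral.isIntegral (R := A) c).map inc).tower_top
  have hG : ∀ g ∈ G, IsIntegral B g := by
    intro g hg
    obtain ⟨c, -, rfl⟩ := Finset.mem_image.1 hg
    exact hincint c
  have hincG : ∀ c : C₀, inc c ∈ Algebra.adjoin B (G : Set R) := by
    intro c
    have hc : c ∈ Submodule.span A (s₀ : Set C₀) := hs₀ ▸ Submodule.mem_top
    induction hc using Submodule.span_induction with
    | mem c hc => exact Algebra.subset_adjoin (Finset.mem_image_of_mem inc hc)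
    | zero => rw [map_zero]; exact zero_mem _
    | add x y _ _ hx hy => rw [map_add]; exact add_mem hx hy
    | smul r x _ hx =>
      rw [map_smul, ← IsScalarTower.algebraMap_smul B r (inc x)]
      exact Subalgebra.smul_mem _ hx _
  have hright : ∀ b : B, ((1 : K') ⊗ₜ[A] b : R) = algebraMap B R b := fun b =>
    (Algebra.TensorProduct.right_algebraMap_apply b).symm
  have hgen : ∀ x : R, ∃ a ∈ Algebra.adjoin B (G : Set R), ∃ b ∈ Algebra.adjoin B (G : Set R),
      IsUnit b ∧ x * b = a := by
    intro x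
    induction x using TensorProduct.induction_on with
    | zero => exact ⟨0, zero_mem _, 1, one_mem _, isUnit_one, by rw [zero_mul]⟩
    | tmul k b =>
      obtain ⟨a, c, hc, e⟩ := h₀.2 k
      refine ⟨inc a * algebraMap B R b, mul_mem (hincG a) (Subalgebra.algebraMap_mem _ _), inc c, hincG c,
        (isUnit_iff_ne_zero.2 hc).map (Algebra.TensorProduct.includeLeftRingHom : K' →+* R), ?_⟩
      show (k ⊗ₜ[A] b) * ((c : K') ⊗ₜ[A] (1 : B)) = ((a : K') ⊗ₜ[A] (1 : B)) * algebraMap B R b
      rw [← hright, Algebra.TensorProduct.tmul_mul_tmul, Algebra.TensorProduct.tmul_mul_tmul, e,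
        one_mul, mul_one, mul_one]
    | add x y hx hy =>
      obtain ⟨a, ha, b, hb, hu, e⟩ := hx
      obtain ⟨a', ha', b', hb', hu', e'⟩ := hy
      refine ⟨a * b' + a' * b, add_mem (mul_mem ha hb') (mul_mem ha' hb), b * b', mul_mem hb hb',
        hu.mul hu', ?_⟩
      rw [← e, ← e']; ring
  let L : minimalPrimes R → Type u := fun P => haveI := hp P; FractionRing (R ⧸ P.1)
  letI : ∀ P, CommRing (L P) := fun P => haveI := hp P; inferInstanceAs (CommRing (FractionRing (R ⧸ P.1)))
  letI : ∀ P, Algebra B (L P) := fun P => haveI := hp P; inferInstanceAs (Algebra B (FractionRing (R ⧸ P.1)))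
  let N : Submodule B (∀ P, L P) :=
    Submodule.pi Set.univ fun P => Subalgebra.toSubmodule (integralClosure B (L P))
  haveI : Module.Finite B N := by
    refine Module.Finite.iff_fg.2 (Submodule.fg_pi fun P => ?_)
    haveI := hp P
    exact fg_integralClosure_fractionRing P.1 (hJ _ (hunder P)) G hG hgen
  haveI : IsNoetherian B N := inferInstance
  let ρ : R →ₐ[B] (∀ P, L P) := Pi.algHom B L fun P =>
    haveI := hp P
    (IsScalarTower.toAlgHom B (R ⧸ P.1) (FractionRing (R ⧸ P.1))).comp (Ideal.Quotient.mkₐ B P.1)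
  have hρ : ∀ x, ρ x = 0 → IsNilpotent x := by
    intro x hx
    have hxn : x ∈ nilradical R := by
      rw [nilradical_eq_sInf, Ideal.mem_sInf]
      intro Q hQ
      replace hQ : Q.IsPrime := hQ
      haveI : Q.IsPrime := hQ
      obtain ⟨P, hP, hle⟩ := Ideal.exists_minimalPrimes_le (I := (⊥ : Ideal R)) (J := Q) bot_le
      have hz := congrFun hx ⟨P, hP⟩
      haveI := hp ⟨P, hP⟩
      exact hle (Ideal.Quotient.eq_zero_iff_mem.1
        (IsFractionRing.injective (R ⧸ P) (FractionRing (R ⧸ P)) (hz.trans (map_zero _).symm)))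
    exact mem_nilradical.1 hxn
  -- image of `C ⊗ B`
  let big : ∀ C : Subalgebra A K', Submodule B R := fun C =>
    { carrier := Set.range (bigMap B C)
      add_mem' := by rintro _ _ ⟨x, rfl⟩ ⟨y, rfl⟩; exact ⟨x + y, map_add _ _ _⟩
      zero_mem' := ⟨0, map_zero _⟩
      smul_mem' := by
        rintro b _ ⟨x, rfl⟩
        refine ⟨((1 : C) ⊗ₜ[A] b) * x, ?_⟩
        rw [map_mul, Algebra.TensorProduct.map_tmul, Algebra.smul_def, ← hright, map_one]
        rfl }
  let T : Subalgebra A K' → Submodule B N := fun C =>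
    ((big C).map ρ.toLinearMap).comap N.subtype
  have hint : ∀ C : Subalgebra A K', IsModel C → ∀ x : C ⊗[A] B, ρ (bigMap B C x) ∈ N := by
    intro C hC x P _
    haveI := hC.1
    have : IsIntegral B (bigMap B C x) := by
      induction x using TensorProduct.induction_on with
      | zero => rw [map_zero]; exact isIntegral_zero
      | tmul c b =>
        have e : bigMap B C (c ⊗ₜ[A] b) =
            ((Algebra.TensorProduct.includeLeft : K' →ₐ[A] R).comp C.val) c * algebraMap B R b := by
          rw [← hright]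
          show (c : K') ⊗ₜ[A] b = ((c : K') ⊗ₜ[A] (1 : B)) * ((1 : K') ⊗ₜ[A] b)
          rw [Algebra.TensorProduct.tmul_mul_tmul, mul_one, one_mul]
        rw [e]
        exact ((Algebra.IsIntegral.isIntegral (R := A) c).map _).tower_top.mul isIntegral_algebraMap
      | add x y hx hy => rw [map_add]; exact hx.add hy
    exact (this.map ρ).map (Pi.evalAlgHom B L P)
  obtain ⟨M, ⟨Cα, hCα, rfl⟩, hmax⟩ := set_has_maximal_iff_noetherian.2 ‹IsNoetherian B N›
    {M | ∃ C, IsModel C ∧ T C = M} ⟨_, C₀, h₀, rfl⟩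
  have hsurj : ∀ C : Subalgebra A K', IsModel C → ∀ hle : Cα ≤ C, ∀ y : ↥C ⊗[A] B, ∃ x : ↥Cα ⊗[A] B,
      IsNilpotent (Algebra.TensorProduct.map (Subalgebra.inclusion hle) (AlgHom.id A B) x - y) := by
    intro C hC hle y
    have hT : T Cα = T C := by
      refine eq_of_le_of_not_lt ?_ (hmax _ ⟨C, hC, rfl⟩)
      rintro n ⟨_, ⟨x, rfl⟩, hx⟩
      exact ⟨_, ⟨Algebra.TensorProduct.map (Subalgebra.inclusion hle) (AlgHom.id A B) x, rfl⟩,
        by rw [bigMap_inclusion]; exact hx⟩
    have hy : (⟨ρ (bigMap B C y), hint C hC y⟩ : N) ∈ T C := ⟨_, ⟨y, rfl⟩, rfl⟩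
    rw [← hT] at hy
    obtain ⟨_, ⟨x, rfl⟩, hx⟩ := hy
    refine ⟨x, (IsNilpotent.map_iff (bigMap_injective C)).1 (hρ _ ?_)⟩
    rw [map_sub, bigMap_inclusion, map_sub]
    exact sub_eq_zero.2 hx
  refine ⟨Cα, hCα, fun C hC hle => ⟨fun x hx =>
    (IsNilpotent.map_iff (map_inclusion_injective hle)).1 hx, hsurj C hC hle⟩, fun hff hint' => ?_⟩
  refine universallyInjective_Spec_of _ ?_
  intro K _ g g' e
  refine RingHom.ext fun c => ?_
  haveI : Module.Finite A (Algebra.adjoin A {(c : K')}) :=
    Module.Finite.iff_fg.2 (IsIntegral.fg_adjoin_singleton c.2)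
  let C := Cα ⊔ Algebra.adjoin A {(c : K')}
  have hC : IsModel C := hCα.sup_adjoin
  have hCint : C ≤ integralClosure A K' :=
    sup_le hint' (Algebra.adjoin_le (Set.singleton_subset_iff.2 c.2))
  letI : Algebra A K := (g.comp (algebraMap A (integralClosure A K'))).toAlgebra
  let gA : integralClosure A K' →ₐ[A] K := { g with commutes' := fun _ => rfl }
  let gA' : integralClosure A K' →ₐ[A] K := { g' with
    commutes' := fun a => (RingHom.congr_fun e (algebraMap A Cα a)).symm }
  let ψ : (integralClosure A K' →ₐ[A] K) → (C ⊗[A] B →ₐ[A] K ⊗[A] B) := fun h =>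
    Algebra.TensorProduct.map (h.comp (Subalgebra.inclusion hCint)) (AlgHom.id A B)
  have hψ : ∀ x : Cα ⊗[A] B,
      ψ gA (Algebra.TensorProduct.map (Subalgebra.inclusion (le_sup_left : Cα ≤ C)) (AlgHom.id A B) x) =
      ψ gA' (Algebra.TensorProduct.map (Subalgebra.inclusion (le_sup_left : Cα ≤ C)) (AlgHom.id A B) x) := by
    intro x
    induction x using TensorProduct.induction_on with
    | zero => simp only [map_zero]
    | tmul a b =>
      exact congrArg (· ⊗ₜ[A] b) (RingHom.congr_fun e a)
    | add x y hx hy => simp only [map_add, hx, hy]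
  let cC : C := ⟨c.1, Algebra.mem_sup_right (Algebra.self_mem_adjoin_singleton A (c : K'))⟩
  obtain ⟨x, hx⟩ := hsurj C hC le_sup_left (cC ⊗ₜ[A] (1 : B))
  set d := Algebra.TensorProduct.map (Subalgebra.inclusion (le_sup_left : Cα ≤ C)) (AlgHom.id A B) x with hd
  have hnil : IsNilpotent ((g c - g' c) ⊗ₜ[A] (1 : B) : K ⊗[A] B) := by
    have : ((g c - g' c) ⊗ₜ[A] (1 : B) : K ⊗[A] B) =
        ψ gA' (d - cC ⊗ₜ[A] (1 : B)) - ψ gA (d - cC ⊗ₜ[A] (1 : B)) := by
      rw [map_sub, map_sub, hd, ← hψ x, sub_sub_sub_cancel_left, TensorProduct.sub_tmul]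
      rfl
    rw [this]
    exact (Commute.all _ _).isNilpotent_sub (hx.map _) (hx.map _)
  have hinj : Function.Injective (Algebra.TensorProduct.includeLeft : K →ₐ[A] K ⊗[A] B) :=
    fun a a' h => by
      refine Module.FaithfullyFlat.tensorProduct_mk_injective (A := A) (B := B) K ?_
      exact (TensorProduct.comm A K B).symm.injective.eq_iff.1 (by simpa using h)
  exact sub_eq_zero.1 ((IsNilpotent.map_iff hinj).1 hnil).eq_zero

end Groth.Agent.CAlgRedStab
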