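import Groth.Prelude.Def_Found
import Mathlib.FieldTheory.IntermediateField.Adjoin.Basic
import Mathlib.RingTheory.Ideal.Over
import Mathlib.RingTheory.Localization.FractionRing

/-!
# Integral elements in the residue field at a prime over an N-2 quotient
-/

universe u

namespace Groth.Agent.CAlgRedStab

variable {B R : Type u} [CommRing B] [IsNoetherianRing B] [CommRing R] [Algebra B R]

/-- If `R` is made of fractions of the algebra generated by finitely many integral elements and
`B / (P ∩ B)` is N-2, then the integral closure of `B` in the fraction field of `R / P` is a finite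
`B`-module. -/
theorem fg_integralClosure_fractionRing (P : Ideal R) [P.IsPrime]
    (hN2 : CAlg.IsN2 (B ⧸ P.under B)) (G : Finset R) (hG : ∀ g ∈ G, IsIntegral B g)
    (hgen : ∀ x : R, ∃ a ∈ Algebra.adjoin B (G : Set R), ∃ b ∈ Algebra.adjoin B (G : Set R),
      IsUnit b ∧ x * b = a) :
    (Subalgebra.toSubmodule (integralClosure B (FractionRing (R ⧸ P)))).FG := by
  let B' := B ⧸ P.under B
  let L := FractionRing (R ⧸ P)
  haveI : FaithfulSMul B' (R ⧸ P) := (faithfulSMul_iff_algebraMap_injective B' (R ⧸ P)).2 (by
    intro x y h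
    obtain ⟨x, rfl⟩ := Ideal.Quotient.mk_surjective x
    obtain ⟨y, rfl⟩ := Ideal.Quotient.mk_surjective y
    rw [Ideal.Quotient.eq, Ideal.under_def, Ideal.mem_comap, map_sub]
    exact Ideal.Quotient.eq.1 h)
  haveI : FaithfulSMul B' L := (faithfulSMul_iff_algebraMap_injective B' L).2 (by
    rw [IsScalarTower.algebraMap_eq B' (R ⧸ P) L]
    exact (IsFractionRing.injective (R ⧸ P) L).comp (FaithfulSMul.algebraMap_injective B' (R ⧸ P)))
  letI : Algebra (FractionRing B') L := FractionRing.liftAlgebra B' L
  haveI : IsScalarTower B' (FractionRing B') L := inferInstance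
  let ρ : R →ₐ[B] L := (IsScalarTower.toAlgHom B (R ⧸ P) L).comp (Ideal.Quotient.mkₐ B P)
  haveI : IsScalarTower B B' L := IsScalarTower.of_algebraMap_eq fun x => by
    rw [IsScalarTower.algebraMap_apply B (R ⧸ P) L, IsScalarTower.algebraMap_apply B' (R ⧸ P) L]
    rfl
  let E : IntermediateField (FractionRing B') L := IntermediateField.adjoin _ (ρ '' (G : Set R))
  have hint : ∀ x ∈ (ρ '' (G : Set R)), IsIntegral (FractionRing B') x := by
    rintro _ ⟨g, hg, rfl⟩
    exact ((hG g hg).map ρ).tower_top (A := B') |>.tower_top
  haveI : FiniteDimensional (FractionRing B') E :=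
    IntermediateField.finiteDimensional_adjoin (S := ρ '' (G : Set R)) hint
  have hB : ∀ x ∈ Algebra.adjoin B (G : Set R), ρ x ∈ E := by
    intro x hx
    induction hx using Algebra.adjoin_induction with
    | mem g hg => exact IntermediateField.subset_adjoin _ _ ⟨g, hg, rfl⟩
    | algebraMap r =>
      rw [AlgHom.commutes, IsScalarTower.algebraMap_apply B B' L,
        IsScalarTower.algebraMap_apply B' (FractionRing B') L]
      exact IntermediateField.algebraMap_mem E _
    | add x y _ _ hx hy => rw [map_add]; exact add_mem hx hy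
    | mul x y _ _ hx hy => rw [map_mul]; exact mul_mem hx hy
  have hR : ∀ x : R, ρ x ∈ E := by
    intro x
    obtain ⟨a, ha, b, hb, hu, hab⟩ := hgen x
    have : ρ x = ρ a / ρ b := by
      rw [eq_div_iff (hu.map ρ).ne_zero, ← map_mul, hab]
    rw [this]
    exact div_mem (hB a ha) (hB b hb)
  have hE : E = ⊤ := by
    refine eq_top_iff.2 fun x _ => ?_
    obtain ⟨a, b, -, rfl⟩ := IsFractionRing.div_surjective (R ⧸ P) x
    obtain ⟨a, rfl⟩ := Ideal.Quotient.mk_surjective a
    obtain ⟨b, rfl⟩ := Ideal.Quotient.mk_surjective b
    exact div_mem (hR a) (hR b)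
  haveI : FiniteDimensional (FractionRing B') L := by
    haveI : FiniteDimensional (FractionRing B') (⊤ : IntermediateField (FractionRing B') L) := hE ▸ ‹FiniteDimensional (FractionRing B') E›
    exact Module.Finite.equiv (IntermediateField.topEquiv (F := FractionRing B') (E := L)).toLinearEquiv
  haveI := hN2 L ‹_›
  haveI : Module.Finite B (integralClosure B' L) := Module.Finite.trans B' _
  let ι : (integralClosure B L) →ₗ[B] (integralClosure B' L) :=
    { toFun := fun x => ⟨x.1, x.2.tower_top⟩
      map_add' := fun _ _ => rfl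
      map_smul' := fun _ _ => rfl }
  haveI : Module.Finite B (integralClosure B L) :=
    Module.Finite.of_injective ι fun x y h => Subtype.ext (congrArg (fun t => t.1) h)
  exact Module.Finite.iff_fg.1 (inferInstanceAs (Module.Finite B (integralClosure B L)))

end Groth.Agent.CAlgRedStab
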